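import Cfsg.Agent.H271.PU.RowB
import Cfsg.Agent.KFacts.CoTwo.RFin
import Cfsg.Agent.LargeExtra.Base

/-!
# S3046, case B: the row of the Conway group `Co₂` (helper23)

`rowB_co2` : `RowB 2 K` for the Conway group `K = Co₂`: `C(z) = 2 ^ (1 + 8) : Sp₆(2)` acts irreducibly on `R / ⟨z⟩`.
-/

set_option autoImplicit false

namespace Cfsg.Agent.H23.PU.Co2

open Subgroup Cfsg Cfsg.Agent.H271.PU Cfsg.Agent.H229 Cfsg.Agent.Co2Type.Quad

universe u

/-- `C_G(z)` has a large extraspecial subgroup `Q` containing all normal 2-subgroups, with `Q / ⟨z⟩` irreducible -/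
theorem rowB_of_irr {G : Type*} [Group G] [Finite G] {Q : Subgroup G} {z : G} (h : Large Q z)
    (hir : KFacts.LargeO2.Irr Q z)
    (hO : ∀ W : Subgroup G, IsPGroup 2 W → (∀ w ∈ W, w * z = z * w) →
      (∀ u : G, u * z = z * u → ∀ w ∈ W, u * w * u⁻¹ ∈ W) → W ≤ Q)
    (hna : ∃ a ∈ Q, ∃ b ∈ Q, a * b ≠ b * a) : RowB 2 G := by
  have : Fact (Nat.Prime 2) := ⟨Nat.prime_two⟩
  have hQ : IsPGroup 2 ↥Q := LargeExtra.Base.isPGroup h
  have ho : orderOf z = 2 := orderOf_eq_prime (by rw [pow_two]; exact h.z_sq) h.z_ne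
  obtain ⟨T, hT⟩ := hQ.exists_le_sylow
  refine rowB_of_center (T := T) (z₀ := z) ?_ ho ?_
  · intro y hy hyc _
    have hyz : y * z = z * y := (hyc z (hT h.z_mem)).symm
    have h1 : y ∈ Q := h.self y hyz fun x hx => (hyc x (hT hx)).symm
    rcases h.cent y h1 fun x hx => (hyc x (hT hx)).symm with h2 | h2
    · rw [h2]
      exact one_mem _
    · rw [h2]
      exact mem_zpowers z
  · intro A hA hz hAc hN hcard
    exfalso
    have hAi : ∀ u : G, u * z = z * u → ∀ w ∈ A, u * w * u⁻¹ ∈ A := fun u hu w hw =>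
      ((mem_normalizer_iff.1 (hN (mem_centralizer_singleton_iff.2 hu))) w).1 hw
    have hA2 : IsPGroup 2 A := fun a => ⟨1, Subtype.ext (by rw [pow_one]; exact hA.2 a a.2)⟩
    have hAQ : A ≤ Q := hO A hA2 (fun w hw => mem_centralizer_singleton_iff.1 (hAc hw)) hAi
    rcases hir A hAQ hAi with h1 | h1
    · have h2 : A ≤ zpowers z := by
        intro a ha
        rcases h1 a ha with h3 | h3
        · rw [h3]; exact one_mem _
        · rw [h3]; exact mem_zpowers z
      have h3 : Nat.card A ≤ Nat.card (zpowers z) := Nat.card_mono (Set.toFinite _) h2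
      rw [Nat.card_zpowers, ho] at h3
      omega
    · obtain ⟨a, ha, b, hb, hab⟩ := hna
      rw [← h1] at ha hb
      exact hab (ea_comm hA ha hb)

/-- **The row of the Conway group `Co₂`.** -/
theorem rowB_co2 {M : Type u} [Group M] [Finite M] (hM : Spor.IsoCo2 M) : RowB 2 M := by
  have : Fact (Nat.Prime 2) := ⟨Nat.prime_two⟩
  obtain ⟨e⟩ := hM
  have hf : Finite Spor.Co2 := Finite.of_equiv M e.toEquiv
  exact (rowB_of_irr KFacts.CoTwo.RLarge.large KFacts.CoTwo.RIrr.irr (fun W => KFacts.CoTwo.RFin.le_R)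
    KFacts.CoTwo.RIrr.hna).congr e.symm

end Cfsg.Agent.H23.PU.Co2
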