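import Cfsg.Agent.H271.PU.RowB
import Cfsg.Agent.H582.Ly.FvFour
import Cfsg.Agent.TypeM.FactsLy

/-!
# S3046, case B: the row of the Lyons group (helper23)

* `fv_lt` : an elementary abelian normal subgroup of `C(f) = 5 ^ (1 + 4) : 2 A₆` containing `f` has order at most 25;
* `rowB_ly` : `RowB 5 K` for the Lyons group `K`.
-/

set_option autoImplicit false

namespace Cfsg.Agent.H23.PU.Ly

open Subgroup Cfsg
open Cfsg.Agent.H582.Ly Cfsg.Agent.SporRec.LyFiveExtra Cfsg.Agent.H271.PU Cfsg.Agent.H229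

universe u

variable {G : Type*} [Group G] [Finite G] {t f : G} {K S A : Subgroup G}

/-- a class of conjugates of `c` under `K` -/
theorem card_le_of_conj {B : Subgroup G} {c : G} (h : ∀ k ∈ K, k * c * k⁻¹ * c⁻¹ ∈ B) :
    Nat.card K ≤ Nat.card (K ⊓ centralizer ({c} : Set G) : Subgroup G) * Nat.card B := by
  rw [← card_inf_mul_relIndex K (centralizer ({c} : Set G))]
  refine Nat.mul_le_mul_left _ ?_
  let φ : ↥K ⧸ (centralizer ({c} : Set G)).subgroupOf K → ↥B :=
    Quotient.lift (fun k : ↥K => (⟨(k : G) * c * (k : G)⁻¹ * c⁻¹, h k k.2⟩ : ↥B)) (by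
      intro a b hab
      have h1 : (a⁻¹ * b : ↥K) ∈ (centralizer ({c} : Set G)).subgroupOf K := QuotientGroup.leftRel_apply.1 hab
      rw [mem_subgroupOf, mem_centralizer_singleton_iff] at h1
      apply Subtype.ext
      change (a : G) * c * (a : G)⁻¹ * c⁻¹ = b * c * (b : G)⁻¹ * c⁻¹
      have h2 : (a : G)⁻¹ * b * c = c * ((a : G)⁻¹ * b) := h1
      congr 1
      calc (a : G) * c * (a : G)⁻¹ = a * (c * ((a : G)⁻¹ * b)) * (b : G)⁻¹ := by group
        _ = a * ((a : G)⁻¹ * b * c) * (b : G)⁻¹ := by rw [h2]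
        _ = b * c * (b : G)⁻¹ := by group)
  have hφ : Function.Injective φ := by
    rintro ⟨a⟩ ⟨b⟩ hab
    apply Quotient.sound
    refine QuotientGroup.leftRel_apply.2 ?_
    rw [mem_subgroupOf, mem_centralizer_singleton_iff]
    have h1 : (a : G) * c * (a : G)⁻¹ * c⁻¹ = b * c * (b : G)⁻¹ * c⁻¹ := congrArg Subtype.val hab
    have h2 : (a : G) * c * (a : G)⁻¹ = b * c * (b : G)⁻¹ := mul_right_cancel h1
    change (a : G)⁻¹ * b * c = c * ((a : G)⁻¹ * b)
    calc (a : G)⁻¹ * b * c = (a : G)⁻¹ * (b * c * (b : G)⁻¹) * b := by group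
      _ = (a : G)⁻¹ * (a * c * (a : G)⁻¹) * b := by rw [h2]
      _ = c * ((a : G)⁻¹ * b) := by group
  exact Nat.card_le_card_of_injective φ hφ

variable (h : Fv t f K S)

include h

/-- `A ≤ K` -/
theorem le_K (hab : ∀ a ∈ A, ∀ b ∈ A, a * b = b * a) (h5 : ∀ a ∈ A, a ^ 5 = 1)
    (hAc : A ≤ centralizer ({f} : Set G)) (hN : centralizer ({f} : Set G) ≤ normalizer (A : Set G)) : A ≤ K := by
  intro c hc
  by_contra hcK
  have hcf : c * f = f * c := mem_centralizer_singleton_iff.1 (hAc hc)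
  have h1 := h.card_le hcf (n := 1) (by rw [pow_one]; exact h5 c hc) hcK
  have h2 : Nat.card K ≤ Nat.card (K ⊓ centralizer ({c} : Set G) : Subgroup G) * Nat.card (A ⊓ K : Subgroup G) := by
    refine card_le_of_conj fun k hk => ⟨?_, ?_⟩
    · have h3 : k ∈ normalizer (A : Set G) := hN (mem_centralizer_singleton_iff.2 (h.h.cent k hk))
      exact A.mul_mem (((mem_normalizer_iff.1 h3) c).1 hc) (A.inv_mem hc)
    · have h3 : c * k⁻¹ * c⁻¹ ∈ K := h.h.norm c (by rw [hcf, mul_inv_cancel_right]; exact mem_zpowers f) _ (inv_mem hk)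
      have e : k * c * k⁻¹ * c⁻¹ = k * (c * k⁻¹ * c⁻¹) := by group
      rw [e]
      exact mul_mem hk h3
  have h3 : Nat.card (A ⊓ K : Subgroup G) ≤ Nat.card (K ⊓ centralizer ({c} : Set G) : Subgroup G) :=
    Nat.card_mono (Set.toFinite _) fun a ha => ⟨ha.2, mem_centralizer_singleton_iff.2 (hab a ha.1 c hc)⟩
  rw [h.h.card] at h2
  have h4 : Nat.card (K ⊓ centralizer ({c} : Set G) : Subgroup G) * Nat.card (A ⊓ K : Subgroup G) ≤ 25 * 25 :=
    Nat.mul_le_mul h1 (h3.trans h1)
  omega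

/-- **the elementary abelian normal subgroups of `C(f)` containing `f` have order less than 125** -/
theorem fv_lt (hA : IsElementaryAbelian 5 A) (hfA : f ∈ A) (hAc : A ≤ centralizer ({f} : Set G))
    (hN : centralizer ({f} : Set G) ≤ normalizer (A : Set G)) : Nat.card A < 5 ^ 3 := by
  have hab : ∀ a ∈ A, ∀ b ∈ A, a * b = b * a := fun a ha b hb => ea_comm hA ha hb
  have h5 : ∀ a ∈ A, a ^ 5 = 1 := hA.2
  have hAK : A ≤ K := le_K h hab h5 hAc hN
  by_contra hcon
  push Not at hcon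
  have hcard : Nat.card A = 5 ^ 3 := le_antisymm (h.card_abelian_K hAK hab) hcon
  have hSA : ∀ s ∈ S, ∀ a ∈ A, s * a * s⁻¹ ∈ A := fun s hs a ha =>
    ((mem_normalizer_iff.1 (hN (mem_centralizer_singleton_iff.2 (h.h.Sf s hs)))) a).1 ha
  -- `S` is faithful on `A`
  have hfaith : ∀ s ∈ S, (∀ a ∈ A, s * a = a * s) → s = 1 := by
    let N : Subgroup ↥S :=
      { carrier := {s | ∀ a ∈ A, (s : G) * a = a * s}
        one_mem' := fun a _ => by simp
        mul_mem' := by
          intro r s hr hs a ha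
          change (r * s : G) * a = a * (r * s)
          rw [mul_assoc, hs a ha, ← mul_assoc, hr a ha, mul_assoc]
        inv_mem' := by
          intro s hs a ha
          change (s : G)⁻¹ * a = a * (s : G)⁻¹
          have h1 : (s : G) * a = a * s := hs a ha
          calc (s : G)⁻¹ * a = (s : G)⁻¹ * (a * s) * (s : G)⁻¹ := by group
            _ = (s : G)⁻¹ * (s * a) * (s : G)⁻¹ := by rw [h1]
            _ = a * (s : G)⁻¹ := by group }
    have hNn : N.Normal := by
      constructor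
      intro s hs r a ha
      change (r * s * (r : G)⁻¹) * a = a * (r * s * (r : G)⁻¹)
      have h1 : (r : G)⁻¹ * a * r ∈ A := by
        have h2 := hSA _ (inv_mem r.2) a ha
        rwa [inv_inv] at h2
      have h2 : (s : G) * ((r : G)⁻¹ * a * r) = ((r : G)⁻¹ * a * r) * s := hs _ h1
      calc (r * s * (r : G)⁻¹) * a = r * (s * ((r : G)⁻¹ * a * r)) * (r : G)⁻¹ := by group
        _ = r * (((r : G)⁻¹ * a * r) * s) * (r : G)⁻¹ := by rw [h2]
        _ = a * (r * s * (r : G)⁻¹) := by group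
    have hN1 : N = ⊥ := by
      refine h.h.six.norm N hNn fun ht => ?_
      have h1 : A ≤ zpowers f := fun a ha => h.h.ct a (hAK ha) ((show t * a = a * t from ht a ha).symm)
      have h2 : Nat.card A ≤ Nat.card (zpowers f) := Nat.card_mono (Set.toFinite _) h1
      rw [h.h.card_F, hcard] at h2
      omega
    intro s hs hsa
    have h1 : (⟨s, hs⟩ : ↥S) ∈ N := hsa
    rw [hN1, mem_bot] at h1
    exact congrArg Subtype.val h1
  -- generators
  have hFA : zpowers f ≤ A := zpowers_le.2 hfA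
  obtain ⟨a, haA, haf⟩ : ∃ a ∈ A, a ∉ zpowers f := by
    by_contra hc
    push Not at hc
    have h2 : Nat.card A ≤ Nat.card (zpowers f) := Nat.card_mono (Set.toFinite _) hc
    rw [h.h.card_F, hcard] at h2
    omega
  set A₁ : Subgroup G := zpowers f ⊔ zpowers a with hA₁
  have hA₁A : A₁ ≤ A := sup_le hFA (zpowers_le.2 haA)
  have hA₁c : Nat.card A₁ ≤ 25 := by
    have h1 := CpAutLy.Frat.card_sup_mul (K := zpowers f) (H := zpowers a) (by
      intro x hx
      have hxA : x ∈ A := (zpowers_le.2 haA) hx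
      rw [mem_normalizer_iff]
      intro y
      constructor
      · intro hy
        rw [hab x hxA y (hFA hy), mul_inv_cancel_right]
        exact hy
      · intro hy
        have h2 : y = x⁻¹ * (x * y * x⁻¹) * x := by group
        have h3 := hab x⁻¹ (inv_mem hxA) _ (hFA hy)
        rw [h3] at h2
        rw [h2, inv_mul_cancel_right]
        exact hy)
    rw [h.h.card_F] at h1
    have h2 : Nat.card (zpowers a) ≤ 5 := by
      rw [Nat.card_zpowers]
      exact orderOf_le_of_pow_eq_one (by norm_num) (h5 a haA)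
    have h3 : 0 < Nat.card (zpowers f ⊓ zpowers a : Subgroup G) := Nat.card_pos
    calc Nat.card A₁ ≤ Nat.card A₁ * Nat.card (zpowers f ⊓ zpowers a : Subgroup G) := Nat.le_mul_of_pos_right _ h3
      _ = 5 * Nat.card (zpowers a) := h1
      _ ≤ 25 := by omega
  obtain ⟨b, hbA, hb1⟩ : ∃ b ∈ A, b ∉ A₁ := by
    by_contra hc
    push Not at hc
    have h2 : Nat.card A ≤ Nat.card A₁ := Nat.card_mono (Set.toFinite _) hc
    rw [hcard] at h2
    omega
  have hgen : ∀ s : G, s * f = f * s → s * a = a * s → s * b = b * s → ∀ x ∈ A, s * x = x * s := by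
    intro s hsf hsa hsb
    set D : Subgroup G := A ⊓ centralizer ({s} : Set G) with hD
    have hmem : ∀ {x : G}, x ∈ A → s * x = x * s → x ∈ D := fun hx hs => ⟨hx, mem_centralizer_singleton_iff.2 hs.symm⟩
    have h1 : A₁ ≤ D := sup_le (zpowers_le.2 (hmem hfA hsf)) (zpowers_le.2 (hmem haA hsa))
    have d1 : Nat.card A₁ ∣ 5 ^ 3 := by rw [← hcard]; exact card_dvd_of_le hA₁A
    have d2 : Nat.card D ∣ 5 ^ 3 := by rw [← hcard]; exact card_dvd_of_le inf_le_left
    have l1 : Nat.card (zpowers f) < Nat.card A₁ := by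
      refine Set.Finite.card_lt_card (Set.toFinite _) ⟨fun x hx => mem_sup_left hx, fun hle => haf (hle ?_)⟩
      exact mem_sup_right (mem_zpowers a)
    have l2 : Nat.card A₁ < Nat.card D := by
      refine Set.Finite.card_lt_card (Set.toFinite _) ⟨h1, fun hle => hb1 (hle ?_)⟩
      exact hmem hbA hsb
    rw [h.h.card_F] at l1
    obtain ⟨i, hi, hi'⟩ := (Nat.dvd_prime_pow Nat.prime_five).1 d1
    obtain ⟨j, hj, hj'⟩ := (Nat.dvd_prime_pow Nat.prime_five).1 d2
    have hj3 : j = 3 := by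
      rw [hi'] at l1 l2
      rw [hj'] at l2
      have e1 : 1 < i := by
        by_contra hc
        push Not at hc
        have := Nat.pow_le_pow_right (n := 5) (by norm_num) hc
        omega
      have e2 : i < j := (Nat.pow_lt_pow_iff_right (by norm_num)).1 l2
      omega
    have hDA : D = A := Subgroup.eq_of_le_of_card_ge inf_le_left (by rw [hj', hj3, hcard])
    intro x hx
    rw [← hDA] at hx
    exact (mem_centralizer_singleton_iff.1 hx.2).symm
  -- the map to pairs of nonidentity cosets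
  let T : Set (G ⧸ zpowers f) := (fun x : G => (x : G ⧸ zpowers f)) '' (A : Set G) \ {((1 : G) : G ⧸ zpowers f)}
  have hTc : T.ncard ≤ 24 := by
    have h1 : ((fun x : G => (x : G ⧸ zpowers f)) '' (A : Set G)).ncard = 25 := by
      let ψ : ↥A ⧸ (zpowers f).subgroupOf A → G ⧸ zpowers f :=
        Quotient.lift (fun x : ↥A => ((x : G) : G ⧸ zpowers f)) (by
          intro x y hxy
          have h1 : (x⁻¹ * y : ↥A) ∈ (zpowers f).subgroupOf A := QuotientGroup.leftRel_apply.1 hxy
          exact QuotientGroup.eq.2 (mem_subgroupOf.1 h1))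
      have hψ : Function.Injective ψ := by
        rintro ⟨x⟩ ⟨y⟩ hxy
        apply Quotient.sound
        refine QuotientGroup.leftRel_apply.2 ?_
        rw [mem_subgroupOf]
        exact QuotientGroup.eq.1 hxy
      have hr : (fun x : G => (x : G ⧸ zpowers f)) '' (A : Set G) = Set.range ψ := by
        ext y
        constructor
        · rintro ⟨x, hx, rfl⟩
          exact ⟨Quotient.mk _ ⟨x, hx⟩, rfl⟩
        · rintro ⟨⟨x⟩, rfl⟩
          exact ⟨x, x.2, rfl⟩
      rw [hr, ← Nat.card_coe_set_eq, Nat.card_range_of_injective hψ]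
      have h2 : Nat.card (zpowers f) * (zpowers f).relIndex A = Nat.card A := card_mul_relIndex hFA
      rw [h.h.card_F, hcard] at h2
      have h3 : (zpowers f).relIndex A = 25 := by omega
      exact h3
    have h2 : ((1 : G) : G ⧸ zpowers f) ∈ (fun x : G => (x : G ⧸ zpowers f)) '' (A : Set G) := ⟨1, one_mem A, rfl⟩
    have h3 := Set.ncard_sdiff_singleton_add_one h2 (Set.toFinite _)
    rw [h1] at h3
    change T.ncard + 1 = 25 at h3
    omega
  have hT : ∀ s ∈ S, ∀ x ∈ A, x ∉ zpowers f → ((s * x * s⁻¹ : G) : G ⧸ zpowers f) ∈ T := by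
    intro s hs x hx hxf
    refine ⟨⟨_, hSA s hs x hx, rfl⟩, fun h1 => hxf ?_⟩
    have h2 : (1 : G)⁻¹ * (s * x * s⁻¹) ∈ zpowers f := QuotientGroup.eq.1 (Set.mem_singleton_iff.1 h1).symm
    rw [inv_one, one_mul] at h2
    have h3 := h.h.S_comm_F hs h2
    have h4 : x = s * x * s⁻¹ := by
      calc x = s⁻¹ * (s * x * s⁻¹ * s) := by group
        _ = s⁻¹ * (s * (s * x * s⁻¹)) := by rw [h3]
        _ = s * x * s⁻¹ := by group
    rw [h4]
    exact h2
  have hbf : b ∉ zpowers f := fun hb => hb1 (mem_sup_left hb)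
  let φ : ↥S → ↥T × ↥T := fun s => (⟨_, hT s s.2 a haA haf⟩, ⟨_, hT s s.2 b hbA hbf⟩)
  have hcomm : ∀ r ∈ S, ∀ s ∈ S, ∀ x ∈ A, ((r * x * r⁻¹ : G) : G ⧸ zpowers f) = ((s * x * s⁻¹ : G) : G ⧸ zpowers f) →
      s⁻¹ * r * x = x * (s⁻¹ * r) := by
    intro r hr s hs x hx hrs
    refine h.comm_of_mem (mul_mem (inv_mem hs) hr) (hAK hx) ?_
    have h1 : (s * x * s⁻¹)⁻¹ * (r * x * r⁻¹) ∈ zpowers f := QuotientGroup.eq.1 hrs.symm
    set y := (s * x * s⁻¹)⁻¹ * (r * x * r⁻¹) with hy
    have h2 : s⁻¹ * r * x * (s⁻¹ * r)⁻¹ * x⁻¹ = x * (s⁻¹ * y * s) * x⁻¹ := by rw [hy]; group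
    have h3 : s⁻¹ * y * s = y := by
      have h4 := h.h.S_comm_F (inv_mem hs) h1
      rw [h4, inv_mul_cancel_right]
    rw [h2, h3, h.h.comm_F (hAK hx) h1, mul_inv_cancel_right]
    exact h1
  have hφ : Function.Injective φ := by
    intro r s hrs
    have e1 := congrArg Subtype.val (congrArg Prod.fst hrs)
    have e2 := congrArg Subtype.val (congrArg Prod.snd hrs)
    have c1 := hcomm r r.2 s s.2 a haA e1
    have c2 := hcomm r r.2 s s.2 b hbA e2
    have hm : (s : G)⁻¹ * r ∈ S := mul_mem (inv_mem s.2) r.2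
    have h1 := hfaith _ hm (hgen _ (h.h.Sf _ hm) c1 c2)
    exact Subtype.ext (inv_mul_eq_one.1 h1).symm
  have h1 := Nat.card_le_card_of_injective φ hφ
  rw [h.h.six.card, Nat.card_prod, Nat.card_coe_set_eq] at h1
  have h2 : T.ncard * T.ncard ≤ 24 * 24 := Nat.mul_le_mul hTc hTc
  omega

/-- the row, from the data -/
theorem rowB_fv (hc : Nat.card G = 51765179004000000) : RowB 5 G := by
  have h5 : Fact (Nat.Prime 5) := ⟨Nat.prime_five⟩
  obtain ⟨t', f', K', S', h', P, -, hKP, hPf, -⟩ := h.exists_sylow hc (A := ⊥) IsPGroup.of_bot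
  refine rowB_of_center (T := P) (z₀ := f') ?_ h'.h.f5 ?_
  · intro y hy hyc _
    refine h'.center y ?_ fun k hk => (hyc k (hKP hk)).symm
    exact h'.mem_of_comm (mem_centralizer_singleton_iff.1 (hPf hy)) fun k hk => (hyc k (hKP hk)).symm
  · intro A hA hz hAc hN hcard
    exact absurd hcard (not_le_of_gt (fv_lt h' hA hz hAc hN))

omit h in
/-- **The row of the Lyons group.** -/
theorem rowB_ly {M : Type u} [Group M] [Finite M] (hM : Spor.IsoLy M) : RowB 5 M := by
  obtain ⟨-, -, hcard, ⟨L⟩⟩ := TypeM.FactsLy.facts hM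
  obtain ⟨f, K, S, h⟩ := exists_fv L
  exact rowB_fv h hcard

end Cfsg.Agent.H23.PU.Ly
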