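import Cfsg.Agent.H271.PU.RowB
import Cfsg.Agent.H47.Wk.McLThree

/-!
# S3046, case B: the row of the McLaughlin group (helper23)

`P` (of order 729) is the Sylow 3-subgroup of `K0 ≅ McL` of `McLType.ThreeElts`, `Z(P) = ⟨π 3⟩`, and `Y` is an element of
order 5 of `C(π 3)`.

* `main` : an element `n` of `P` outside `⟨π 3⟩` does not commute with `n ^ Y` or not with `n ^ (Y ^ 2)`;
* `rowB_mcl` : `RowB 3 K` for the McLaughlin group `K`.
-/

set_option autoImplicit false

namespace Cfsg.Agent.H23.PU.McL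

open Subgroup Cfsg
open Cfsg.Agent.SporadicStructure.PermChain Cfsg.Agent.McLType.Chain Cfsg.Agent.McLType.X275
  Cfsg.Agent.McLType.Gens Cfsg.Agent.McLType.Model Cfsg.Agent.McLType.ThreeElts Cfsg.Agent.H47.Wk.McLThree
open Cfsg.Agent.H271.PU Cfsg.Agent.H229

universe u

/-- the table of `Y` -/
def yt : ℕ := 0x4110f24911c22d854318b65a54a41da1753260ef031ea8038bf2483128d1240791e14520e406762242c7cdd6e26d766d5999d60860415802ad831a51b021fb1cf6433d0697c1318be5d432509919e5e31304b0384a87c0c050b01d16a35d24d925426a1c04858413856c00215d1c4131834a0d91a0b444db41918f8da7d3d14e27091c0dcc2293586e242506de6f5870c0fa4069170161d109bcbe961186508ab66b9572ca6f108aae7892713d054bbfcc0fd70c11d8c877895c8e287b11190c1d9cd149a4fa74a2ae0c28a0efb7b9146caa8838da70d413e0fc9973165ecbc2e85562006a8d45c651d0a8a62f770381e6b161a16479700a200b857a25223c6fadd7a4f7f184e4b65a9d596eb7e12d01116a3a4fef110339d0d0049aa02cc850cc98ac781e04cb438998526c6ba0586a53a3141509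

/-- the table of `Y⁻¹` -/
def yi : ℕ := 0x1ec405735a4ca8687704c00b72eb7cf072803702a353b0ace8232e28da4522d93528a24ac40380f378fe0a71123443c193e13d046d2b1b0e637179fdd8eb54291590c03a688e1f2aa3df01866869061412a017a706d428046a02a7194b47e3545a4c74afd0234170a04e0c738e492e519981c010421620f0b50c0c08f3601799efe319e4c47a75190a1023ba218ef95f43c63067aac5ba696099465115d39170855394c0c210e94522a56cb5c700e80bc04c03330a4169e45275d0081e059bc3a7302888ce57b2c547544b30968e84c209cc959388fabc20a6cc2ad162d976111125df6f787298b4ef6c1f960906dbb5fe303390de4c84c9648cab09341a69220115543b5a908123650034dc9843aa5161b633d918fd4b3590c5f8230c94f46a27e1b121e8f95cfa468042ee36131588b378ae5c248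

theorem yt_all : allBelow (fun x => Nat.beq (evalWord 9 tabs yw x) (look 9 yt x)) 275 = true := by decide +kernel

theorem yi_all : allBelow (fun x => Nat.beq (look 9 yt (look 9 yi x)) x && Nat.blt (look 9 yi x) 275) 275 = true := by
  decide +kernel

theorem Y_tab (x : Fin 275) : ((Y x : Fin 275) : ℕ) = look 9 yt x := by
  rw [Y_apply]
  exact Nat.eq_of_beq_eq_true (allBelow_spec _ _ yt_all x x.2)

theorem Yi_tab (x : Fin 275) : ((Y⁻¹ x : Fin 275) : ℕ) = look 9 yi x := by
  have h := allBelow_spec _ _ yi_all x x.2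
  rw [Bool.and_eq_true, Nat.blt_eq] at h
  have h1 : Y ⟨look 9 yi x, h.2⟩ = x := Fin.ext (by
    rw [Y_tab]
    exact Nat.eq_of_beq_eq_true h.1)
  have h2 : Y⁻¹ x = ⟨look 9 yi x, h.2⟩ := by
    rw [Equiv.Perm.inv_eq_iff_eq]
    exact h1.symm
  rw [h2]

/-- the images of a point under the products of `n` and `n ^ Y` in both orders agree -/
def cy (N x : ℕ) : Bool :=
  Nat.beq (evalWord 9 pt (wn 6 0 N) (look 9 yt (evalWord 9 pt (wn 6 0 N) (look 9 yi x))))
    (look 9 yt (evalWord 9 pt (wn 6 0 N) (look 9 yi (evalWord 9 pt (wn 6 0 N) x))))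

/-- the same for `Y ^ 2` -/
def cy2 (N x : ℕ) : Bool :=
  Nat.beq (evalWord 9 pt (wn 6 0 N) (look 9 yt (look 9 yt (evalWord 9 pt (wn 6 0 N) (look 9 yi (look 9 yi x))))))
    (look 9 yt (look 9 yt (evalWord 9 pt (wn 6 0 N) (look 9 yi (look 9 yi (evalWord 9 pt (wn 6 0 N) x))))))

def exc (N : ℕ) : Bool := Nat.beq N 0 || (Nat.beq N 27 || Nat.beq N 54)

theorem main_all : allBelow (fun N => exc N || !(cy N 1 && cy2 N 1)) 729 = true := by decide +kernel

theorem cent_all : allBelow (fun N => exc N || !(cmB N 1 && (cmB N 3 && (cmB N 9 && (cmB N 27 && (cmB N 81 && cmB N 243))))))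
    729 = true := by decide +kernel

theorem z_all : (cmB 27 1 && (cmB 27 3 && (cmB 27 9 && (cmB 27 81 && cmB 27 243)))) = true := by decide +kernel

theorem zY_all : allBelow (fun x => Nat.beq (look 9 yt (look 9 P3 x)) (look 9 P3 (look 9 yt x))) 275 = true := by
  decide +kernel

/-- the centre -/
abbrev Z : Equiv.Perm (Fin 275) := π 3

theorem nf27 : nf 27 = Z := by
  have h : wn 6 0 27 = [3] := by decide
  rw [nf, h]
  simp

theorem nf54 : nf 54 = Z * Z := by
  have h : wn 6 0 54 = [3, 3] := by decide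
  rw [nf, h]
  simp

theorem mem_of_exc {N : ℕ} (h : exc N = true) : nf N ∈ zpowers Z := by
  rw [exc, Bool.or_eq_true, Bool.or_eq_true] at h
  rcases h with h | h | h
  · rw [Nat.eq_of_beq_eq_true h, nf_zero]
    exact one_mem _
  · rw [Nat.eq_of_beq_eq_true h, nf27]
    exact mem_zpowers _
  · rw [Nat.eq_of_beq_eq_true h, nf54]
    exact mul_mem (mem_zpowers _) (mem_zpowers _)

theorem YZ : Y * Z = Z * Y := by
  refine Equiv.ext fun x => Fin.ext ?_
  rw [Equiv.Perm.mul_apply, Equiv.Perm.mul_apply, Y_tab, π_spec 3 (by norm_num), π_spec 3 (by norm_num), Y_tab]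
  exact Nat.eq_of_beq_eq_true (allBelow_spec _ _ zY_all x x.2)

theorem aux {n y : Equiv.Perm (Fin 275)} {fn fy fi : ℕ → ℕ} (hn : ∀ x : Fin 275, ((n x : Fin 275) : ℕ) = fn x)
    (hy : ∀ x : Fin 275, ((y x : Fin 275) : ℕ) = fy x) (hi : ∀ x : Fin 275, ((y⁻¹ x : Fin 275) : ℕ) = fi x)
    (h : n * (y * n * y⁻¹) = y * n * y⁻¹ * n) (x : Fin 275) (x' : ℕ) (hx : (x : ℕ) = x') :
    fn (fy (fn (fi x'))) = fy (fn (fi (fn x'))) := by
  subst hx
  have e := congrArg (fun p : Equiv.Perm (Fin 275) => ((p x : Fin 275) : ℕ)) h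
  simp only [Equiv.Perm.mul_apply, hn, hy, hi] at e
  exact e

theorem aux2 {n y : Equiv.Perm (Fin 275)} {fn fy fi : ℕ → ℕ} (hn : ∀ x : Fin 275, ((n x : Fin 275) : ℕ) = fn x)
    (hy : ∀ x : Fin 275, ((y x : Fin 275) : ℕ) = fy x) (hi : ∀ x : Fin 275, ((y⁻¹ x : Fin 275) : ℕ) = fi x)
    (h : n * (y * (y * n * y⁻¹) * y⁻¹) = y * (y * n * y⁻¹) * y⁻¹ * n) (x : Fin 275) (x' : ℕ) (hx : (x : ℕ) = x') :
    fn (fy (fy (fn (fi (fi x'))))) = fy (fy (fn (fi (fi (fn x'))))) := by
  subst hx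
  have e := congrArg (fun p : Equiv.Perm (Fin 275) => ((p x : Fin 275) : ℕ)) h
  simp only [Equiv.Perm.mul_apply, hn, hy, hi] at e
  exact e

theorem val_one : ((1 : Fin 275) : ℕ) = 1 := rfl

/-- **an element `n` of `P` which commutes with `n ^ Y` and `n ^ (Y ^ 2)` lies in `⟨π 3⟩`** -/
theorem main {n : Equiv.Perm (Fin 275)} (hn : n ∈ P) (h1 : n * (Y * n * Y⁻¹) = Y * n * Y⁻¹ * n)
    (h2 : n * (Y * (Y * n * Y⁻¹) * Y⁻¹) = Y * (Y * n * Y⁻¹) * Y⁻¹ * n) : n ∈ zpowers Z := by
  obtain ⟨N, hN, rfl⟩ := exists_nf6 hn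
  have h := allBelow_spec _ _ main_all N hN
  rw [Bool.or_eq_true] at h
  rcases h with h | h
  · exact mem_of_exc h
  · exfalso
    rw [Bool.not_eq_true', ← Bool.not_eq_true] at h
    apply h
    have e1 := aux (nf_apply N) Y_tab Yi_tab h1 1 1 val_one
    have e2 := aux2 (nf_apply N) Y_tab Yi_tab h2 1 1 val_one
    rw [Bool.and_eq_true]
    constructor
    · rw [cy, Nat.beq_eq]
      exact e1
    · rw [cy2, Nat.beq_eq]
      exact e2

/-- the centre of `P` -/
theorem center {n : Equiv.Perm (Fin 275)} (hn : n ∈ P) (hc : ∀ p ∈ P, p * n = n * p) : n ∈ zpowers Z := by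
  obtain ⟨N, hN, rfl⟩ := exists_nf6 hn
  have h := allBelow_spec _ _ cent_all N hN
  rw [Bool.or_eq_true] at h
  rcases h with h | h
  · exact mem_of_exc h
  · exfalso
    rw [Bool.not_eq_true', ← Bool.not_eq_true] at h
    apply h
    have key : ∀ M, cmB N M = true := fun M => cmB_iff.2 (hc _ (nf_mem M)).symm
    simp only [key, Bool.and_self]

theorem Z_comm {p : Equiv.Perm (Fin 275)} (hp : p ∈ P) : p * Z = Z * p := by
  have h0 := z_all
  simp only [Bool.and_eq_true] at h0
  obtain ⟨a0, a1, a2, a4, a5⟩ := h0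
  have h : P ≤ centralizer ({Z} : Set (Equiv.Perm (Fin 275))) := by
    rw [P, closure_le]
    rintro x ⟨s, -, hs, rfl⟩
    refine mem_centralizer_singleton_iff.2 ?_
    have hk : ∀ k : Fin 6, nf (3 ^ (k : ℕ)) = π k := by
      intro k
      rw [nf, nf_pow]
      simp
    have h3 := hk ⟨s, hs⟩
    change nf (3 ^ s) = π s at h3
    rw [← h3, ← nf27]
    interval_cases s
    · exact (cmB_iff.1 a0).symm
    · exact (cmB_iff.1 a1).symm
    · exact (cmB_iff.1 a2).symm
    · rfl
    · exact (cmB_iff.1 a4).symm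
    · exact (cmB_iff.1 a5).symm
  exact mem_centralizer_singleton_iff.1 (h hp)

theorem Z_ord : orderOf Z = 3 := by
  have : Fact (Nat.Prime 3) := ⟨Nat.prime_three⟩
  refine orderOf_eq_prime (π_cube 3 (by norm_num)) ?_
  intro h
  have h1 : ((Z 1 : Fin 275) : ℕ) = look 9 P3 1 := π_spec 3 (by norm_num) 1
  rw [h] at h1
  have h2 : Nat.beq (look 9 P3 1) 1 = false := by decide +kernel
  rw [← h1] at h2
  exact absurd h2 (by decide)

/-- the row of `G1` -/
theorem rowB_G1 : RowB 3 G1 := by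
  classical
  have hF : Fact (Nat.Prime 3) := ⟨Nat.prime_three⟩
  have hcard : Nat.card (P.comap ψ) = 3 ^ (Nat.card G1).factorization 3 := by
    have h1 : Nat.card (P.comap ψ) = Nat.card P := by
      have h2 : (P.comap ψ).map ψ = P := by
        rw [Subgroup.map_comap_eq_self]
        intro y hy
        obtain ⟨g, hg⟩ := mem_K0_iff.1 (P_le_K0 hy)
        exact ⟨g, hg⟩
      rw [← h2, Subgroup.comap_map_eq_self_of_injective ψ_injective]
      exact Nat.card_congr ((P.comap ψ).equivMapOfInjective ψ ψ_injective).toEquiv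
    rw [h1, card_P, card_G1]
    have h3 : (898128000 : ℕ) = 3 ^ 6 * 1232000 := by norm_num
    have h4 : (898128000 : ℕ).factorization 3 = 6 := by
      rw [h3, Nat.factorization_mul (by norm_num) (by norm_num), Finsupp.add_apply,
        Nat.factorization_pow, Finsupp.smul_apply, Nat.Prime.factorization_self Nat.prime_three,
        Nat.factorization_eq_zero_of_not_dvd (by norm_num)]
      rfl
    rw [h4]
    norm_num
  let T : Sylow 3 G1 := Sylow.ofCard (P.comap ψ) hcard
  have hT : ∀ {x : G1}, x ∈ (T : Subgroup G1) ↔ ψ x ∈ P := Iff.rfl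
  obtain ⟨z, hz⟩ := mem_K0_iff.1 (P_le_K0 (π_mem 3 (by norm_num)))
  obtain ⟨y, hy⟩ := mem_K0_iff.1 Y_mem
  have hzo : orderOf z = 3 := by
    rw [← orderOf_injective ψ ψ_injective, hz, Z_ord]
  have hzp : ∀ {x : G1}, ψ x ∈ zpowers Z → x ∈ zpowers z := by
    intro x hx
    obtain ⟨k, hk⟩ := mem_zpowers_iff.1 hx
    refine mem_zpowers_iff.2 ⟨k, ψ_injective ?_⟩
    rw [map_zpow, hz]
    exact hk
  refine rowB_of_center (T := T) (z₀ := z) ?_ hzo ?_
  · intro x hx hxc _
    apply hzp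
    refine center (hT.1 hx) fun p hp => ?_
    obtain ⟨t, rfl⟩ := mem_K0_iff.1 (P_le_K0 hp)
    rw [← map_mul, ← map_mul, hxc t (hT.2 hp)]
  · intro A hA hzA hAc hN h27
    exfalso
    have hTN : (T : Subgroup G1) ≤ normalizer (A : Set G1) := by
      refine le_trans ?_ hN
      intro t ht
      refine mem_centralizer_singleton_iff.2 (ψ_injective ?_)
      rw [map_mul, map_mul, hz]
      exact Z_comm (hT.1 ht)
    have hAp : IsPGroup 3 A := fun a => ⟨1, Subtype.ext (by rw [pow_one]; exact hA.2 a a.2)⟩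
    have hAT : A ≤ T := by
      have h3 : IsPGroup 3 ↥((T : Subgroup G1) ⊔ A : Subgroup G1) := by
        rw [sup_comm]
        exact isPGroup_sup_of_norm hAp T.isPGroup' hTN
      have h4 := T.is_maximal' h3 le_sup_left
      rw [← h4]
      exact le_sup_right
    have hyN : y ∈ normalizer (A : Set G1) := by
      apply hN
      refine mem_centralizer_singleton_iff.2 (ψ_injective ?_)
      rw [map_mul, map_mul, hz, hy]
      exact YZ
    have hyA : ∀ a ∈ A, y * a * y⁻¹ ∈ A := fun a ha => ((mem_normalizer_iff.1 hyN) a).1 ha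
    have hle : A ≤ zpowers z := by
      intro a ha
      apply hzp
      refine main (hT.1 (hAT ha)) ?_ ?_
      · have h1 := congrArg ψ (ea_comm hA ha (hyA a ha))
        simpa only [map_mul, map_inv, hy] using h1
      · have h1 := congrArg ψ (ea_comm hA ha (hyA _ (hyA a ha)))
        simpa only [map_mul, map_inv, hy] using h1
    have h1 : Nat.card A ≤ Nat.card (zpowers z) := Nat.card_mono (Set.toFinite _) hle
    rw [Nat.card_zpowers, hzo] at h1
    omega

/-- **The row of the McLaughlin group.** -/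
theorem rowB_mcl {M : Type u} [Group M] [Finite M] (hM : Spor.IsoMcL M) : RowB 3 M := by
  have hF : Fact (Nat.Prime 3) := ⟨Nat.prime_three⟩
  obtain ⟨e⟩ := hM
  obtain ⟨e'⟩ := isoMcL_G1
  exact rowB_G1.congr (e'.trans e.symm)

end Cfsg.Agent.H23.PU.McL
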